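import Mathlib
import Cfsg.Agent.Lib.CosetTable.Check

/-! Generated certificate data for the coset table `ONLevel4`. -/

namespace Cfsg.Agent.Lib.CosetTable.ONLevel4

open Cfsg.Agent.Lib.CosetTable

set_option maxRecDepth 10000

noncomputable def facts : T := .leaf 0xc00006400000c00006300000c00006200000c000061000008000060000008000044000008000043000008000042000004000041000004000024000004000023000004000020000000000022000000000004000000000003000000000001000000000000000000000009000000000008000000000007000000000006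

noncomputable def defs : T := .leaf 0x40000000000021000000000002000000000000

noncomputable def nodeT : ℕ := 0x3000002000001000000

noncomputable def parT : ℕ := 0x40000021000002000000

noncomputable def perm0 : ℕ := 0x2000300010000

noncomputable def eid0 : ℕ := 0x10000010000009000004

noncomputable def perm1 : ℕ := 0x3000100020000

noncomputable def eid1 : ℕ := 0x1100000c00000c000005

noncomputable def perm2 : ℕ := 0x3000200000001

noncomputable def eid2 : ℕ := 0x1200000d000008000008

noncomputable def perm3 : ℕ := 0x3000200010000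

noncomputable def eid3 : ℕ := 0x1300000e00000a000006

noncomputable def perm4 : ℕ := 0x3000200010000

noncomputable def eid4 : ℕ := 0x1400000f00000b000007

noncomputable def rulesT : RT := .node (.node (.node (.node (.leaf 0 [6] 30 0) (.leaf 3 [1, 3, 1] 7 0)) (.node (.leaf 0 [2, 0, 2] 2 1) (.leaf 3 [0, 3, 0] 3 0))) (.node (.node (.leaf 3 [8] 32 0) (.leaf 1 [0, 1, 0, 1, 0] 1 0)) (.node (.leaf 4 [2, 4, 2] 11 0) (.leaf 5 [] 0 0)))) (.node (.node (.node (.leaf 1 [7] 31 0) (.leaf 4 [1, 4, 1] 8 0)) (.node (.leaf 3 [2, 3, 2] 10 0) (.leaf 4 [0, 4, 0] 4 0))) (.node (.node (.leaf 4 [9] 33 0) (.leaf 2 [0, 2, 0] 2 0)) (.node (.leaf 2 [1, 2, 1, 2, 1] 6 0) (.leaf 5 [] 0 0))))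

noncomputable def relsL : List (List ℕ) := [[0, 0],
  [0, 1, 0, 1, 0, 1],
  [0, 2, 0, 2],
  [0, 3, 0, 3],
  [0, 4, 0, 4],
  [1, 1],
  [1, 2, 1, 2, 1, 2],
  [1, 3, 1, 3],
  [1, 4, 1, 4],
  [2, 2],
  [2, 3, 2, 3],
  [2, 4, 2, 4],
  [3, 3],
  [3, 4, 3, 4, 3, 4],
  [4, 4]]

noncomputable def subsL : List (List ℕ) := [[0],
  [1],
  [3],
  [4]]

noncomputable def cert : Cert where
  k := 5
  rels := relsL
  subs := subsL
  rules := rulesT
  facts := facts
  defs := defs

noncomputable def tab : Table where
  n := 4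
  k := 5
  node := nodeT
  perms := [perm0, perm1, perm2, perm3, perm4]
  eids := [eid0, eid1, eid2, eid3, eid4]
  par := parT

end Cfsg.Agent.Lib.CosetTable.ONLevel4
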