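import Cfsg.Agent.Lib.CosetTable.Sound
import Cfsg.Agent.Lib.CosetTable.ONLevel4.Data

/-! Generated certificate data for the coset table `ONLevel4`. -/

namespace Cfsg.Agent.Lib.CosetTable.ONLevel4

open Cfsg.Agent.Lib.CosetTable

noncomputable def streams0 : List (ℕ × ℕ) := [(21, 0x2000001e00002100000300000f00002000001c00002100000300000e00002000001a00002100000300000d00002000001800001200001900002100000500000c00000000000000001800001600001900000300000b00001800001400001900000300000a00001800001000000a00001100001900000500000900000000000000001000000e00001100000300000800001000000c000011000003000007000010000008000011000003000006000000000000000006000001000005000004000001000004000002000001000003000000000001000002000000000001000000000001000000000001000000000001)]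

theorem run0 : cert.goStreams streams0 0 = true := by decide +kernel

theorem part1 (h : cert.Upto 0) : cert.Upto 21 :=
  (h).step (b := 21) run0 rfl

end Cfsg.Agent.Lib.CosetTable.ONLevel4
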